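import Groth.Agent.Lib.AlgSpDescent.LocalST
import Groth.Agent.Lib.AlgSpace.Chart
import Groth.Agent.Lib.AlgSpace.Points
import Groth.Agent.Lib.AlgSpace.Sub
import Groth.Agent.Lib.AlgSpRel14.Nbhd
import Mathlib.AlgebraicGeometry.Morphisms.Flat
import Mathlib.AlgebraicGeometry.Morphisms.UniversallyOpen

/-!
The largest open of the base over which a property local on the base holds.
-/

set_option autoImplicit false

universe u

open CategoryTheory CategoryTheory.Limits AlgebraicGeometry AlgSp Opposite MorphismProperty TopologicalSpace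
open Groth.Agent.AlgSpace Groth.Agent.AlgSpDecent Groth.Agent.AlgSpDescent

namespace Groth.Agent.LargestOpen15

variable {S : Scheme.{u}}

/-- A morphism with an open chart property has open image. -/
theorem isOpen_range_of_locP {Q : MorphismProperty Scheme.{u}}
    (hQ : ∀ ⦃A B : Scheme.{u}⦄ (g : A ⟶ B), Q g → IsOpenMap g) {X Y : Sp S} (hX : IsAlgSpace X)
    (hY : IsAlgSpace Y) {g : X ⟶ Y} (hg : LocP Q g) : IsOpen (Set.range (Points.map g)) := by
  obtain ⟨U, V, a, b, h, hae, has, hbe, -, w⟩ := exists_chart_square hX hY g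
  have : Set.range (Points.map g) = Points.ofPt b '' Set.range h.left := by
    ext y
    constructor
    · rintro ⟨x, rfl⟩
      obtain ⟨u, rfl⟩ := surjective_ofPt has x
      refine ⟨h.left u, ⟨u, rfl⟩, ?_⟩
      rw [Points.map_ofPt, w, ofPt_map_comp]
    · rintro ⟨_, ⟨u, rfl⟩, rfl⟩
      exact ⟨Points.ofPt a u, by rw [Points.map_ofPt, w, ofPt_map_comp]⟩
  rw [this]
  exact isOpenMap_ofPt b hbe _ (hQ _ (hg a b h hae hbe w)).isOpen_range

/-- A class of morphisms used for coverings. -/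
structure CoverClass (G : MorphismProperty (Sp S)) : Prop where
  openImm : ∀ ⦃X Y : Sp S⦄ (j : X ⟶ Y), IsAlgSpace X → IsAlgSpace Y → RepWith @IsOpenImmersion j → G j
  id : ∀ ⦃X : Sp S⦄, IsAlgSpace X → G (𝟙 X)
  comp : ∀ ⦃X Y Z : Sp S⦄ (f : X ⟶ Y) (g : Y ⟶ Z), IsAlgSpace X → IsAlgSpace Y → IsAlgSpace Z → G f → G g →
    G (f ≫ g)
  baseChange : ∀ ⦃X Y X' Y' : Sp S⦄ (f : X ⟶ Y) (g : Y' ⟶ Y) (f' : X' ⟶ Y') (g' : X' ⟶ X),
    IsAlgSpace X → IsAlgSpace Y → IsAlgSpace Y' → IsPullback g' f' f g → G f → G f'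
  isOpen_range : ∀ ⦃X Y : Sp S⦄ (g : X ⟶ Y), IsAlgSpace X → IsAlgSpace Y → G g →
    IsOpen (Set.range (Points.map g))

variable {G : MorphismProperty (Sp S)} (hG : CoverClass G) {P : MorphismProperty (Sp S)}
  (hP : IsLocalOnBase (fun _ _ Y g => IsCover G Y g) P)

/-- The property holds over the open. -/
def Good (P : MorphismProperty (Sp S)) {X Y : AlgSp.Space S} (f : X ⟶ Y)
    (V : TopologicalSpace.Opens (Points Y.obj)) : Prop :=
  ∀ (W₁ X₁ : AlgSp.Space S) (j₁ : W₁ ⟶ Y) (j₁' : X₁ ⟶ X) (f₁ : X₁ ⟶ W₁),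
    RepWith @IsOpenImmersion j₁.hom → Set.range (Points.map j₁.hom) = (V : Set (Points Y.obj)) →
    IsPullback j₁'.hom f₁.hom f.hom j₁.hom → P f₁.hom

include hG in
/-- A factorization through an open immersion stays in the class. -/
theorem factor_mem {A B C : Sp S} (hA : IsAlgSpace A) (hB : IsAlgSpace B) (hC : IsAlgSpace C) {g : A ⟶ B}
    {j : B ⟶ C} (hj : RepWith @IsOpenImmersion j) (hg : G (g ≫ j)) : G g := by
  have : Mono j := mono_of_isImmersion (repWith_mono (Q := @IsImmersion) (fun _ _ g (_ : IsOpenImmersion g) => inferInstance) hj)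
  exact hG.baseChange (g ≫ j) j g (𝟙 A) hA hC hB (isPullback_of_mono g j) hg

include hG hP in
theorem baseChange_mem {X Y X' Y' : Sp S} (hX : IsAlgSpace X) (hY : IsAlgSpace Y) (hX' : IsAlgSpace X')
    (hY' : IsAlgSpace Y') {f : X ⟶ Y} {g : Y' ⟶ Y} {f' : X' ⟶ Y'} {g' : X' ⟶ X}
    (sq : IsPullback g' f' f g) (hg : G g) (hf : P f) : P f' := by
  let F : PUnit.{u + 1} ⊕ PUnit.{u + 1} → Sp S := Sum.elim (fun _ => Y') fun _ => Y
  let k : ∀ i, F i ⟶ Y := fun i => match i with | .inl _ => g | .inr _ => 𝟙 Y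
  let H : PUnit.{u + 1} ⊕ PUnit.{u + 1} → Sp S := Sum.elim (fun _ => X') fun _ => X
  let p : ∀ i, H i ⟶ F i := fun i => match i with | .inl _ => f' | .inr _ => f
  let q : ∀ i, H i ⟶ X := fun i => match i with | .inl _ => g' | .inr _ => 𝟙 X
  have hF : ∀ i, IsAlgSpace (F i) := fun i => match i with | .inl _ => hY' | .inr _ => hY
  have hH : ∀ i, IsAlgSpace (H i) := fun i => match i with | .inl _ => hX' | .inr _ => hX
  have hk : IsCover G F k := ⟨fun i => match i with
      | .inl _ => hg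
      | .inr _ => hG.id hY,
    fun x => ⟨.inr ⟨⟩, x, Points.map_id x⟩⟩
  have hsq : ∀ i, IsPullback (q i) (p i) f (k i) := fun i => match i with
    | .inl _ => sq
    | .inr _ => IsPullback.id_horiz f
  exact (hP F k hY hF hk f hX H p q hH hsq).1 hf (.inl ⟨⟩)

variable {X Y : AlgSp.Space S} (f : X ⟶ Y)

/-- The largest good open. -/
noncomputable def largest (P : MorphismProperty (Sp S)) {X Y : AlgSp.Space S} (f : X ⟶ Y) :
    TopologicalSpace.Opens (Points Y.obj) :=
  sSup {V | Good P f V}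

theorem le_largest {V : TopologicalSpace.Opens (Points Y.obj)} (hV : Good P f V) : V ≤ largest P f := le_sSup hV

include hG hP in
theorem good_largest : Good P f (largest P f) := by
  intro W₀ X₀ j₀ j₀' f₀ hj₀ hr sq₀
  obtain ⟨U, p, -, hps⟩ := W₀.property.atlas
  have hex : ∀ z : U.left, ∃ (W₁ : AlgSp.Space S) (j₁ : W₁ ⟶ Y) (V : TopologicalSpace.Opens (Points Y.obj))
      (g : W₁.obj ⟶ W₀.obj), RepWith @IsOpenImmersion j₁.hom ∧ Set.range (Points.map j₁.hom) = (V : Set _) ∧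
      Good P f V ∧ g ≫ j₀.hom = j₁.hom ∧ Points.ofPt p z ∈ Set.range (Points.map g) := by
    intro z
    obtain ⟨V, hV, hz⟩ := Opens.mem_sSup.1 (show Points.map j₀.hom (Points.ofPt p z) ∈ largest P f from
      hr.subset ⟨_, rfl⟩)
    obtain ⟨W₁, j₁, hj₁, hr₁⟩ := AlgSpRel14.exists_open_space Y V.2
    obtain ⟨g, hg⟩ := exists_factor_of_range hj₀ j₁.hom (by
      rw [hr, hr₁]
      exact fun y hy => le_largest f hV hy)
    obtain ⟨w, hw⟩ := hr₁.symm.subset hz
    refine ⟨W₁, j₁, V, g, hj₁, hr₁, hV, hg, w, injective_map_of_openImmersion hj₀ ?_⟩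
    rw [← Points.map_comp, hg, hw]
  choose W₁ j₁ V g hj₁ hr₁ hV hg hz using hex
  have hmem : ∀ z, G (g z) := fun z =>
    factor_mem hG (W₁ z).property W₀.property Y.property hj₀
      (hg z ▸ hG.openImm _ (W₁ z).property Y.property (hj₁ z))
  refine (hP (fun z => (W₁ z).obj) g W₀.property (fun z => (W₁ z).property) ⟨hmem, fun x => ?_⟩ f₀.hom
    X₀.property (fun z => pullback f₀.hom (g z)) (fun z => pullback.snd _ _) (fun z => pullback.fst _ _)
    (fun z => isAlgSpace_pullback W₀.property X₀.property (W₁ z).property (IsPullback.of_hasPullback _ _))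
    fun z => IsPullback.of_hasPullback _ _).2 fun z => ?_
  · obtain ⟨z, rfl⟩ := surjective_ofPt hps x
    exact ⟨z, hz z⟩
  · refine hV z (W₁ z) ⟨_, isAlgSpace_pullback W₀.property X₀.property (W₁ z).property
      (IsPullback.of_hasPullback f₀.hom (g z))⟩ (j₁ z)
      (ObjectProperty.homMk (pullback.fst f₀.hom (g z) ≫ j₀'.hom)) (ObjectProperty.homMk (pullback.snd _ _))
      (hj₁ z) (hr₁ z) ?_
    change IsPullback (pullback.fst f₀.hom (g z) ≫ j₀'.hom) (pullback.snd _ _) f.hom (j₁ z).hom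
    rw [← hg z]
    exact (IsPullback.of_hasPullback _ _).paste_horiz sq₀

include hG hP in
theorem range_subset_largest {Y' X' : AlgSp.Space S} (g : Y' ⟶ Y) (g' : X' ⟶ X) (f' : X' ⟶ Y') (hg : G g.hom)
    (sq : IsPullback g'.hom f'.hom f.hom g.hom) (hf' : P f'.hom) :
    Set.range (Points.map g.hom) ⊆ (largest P f : Set (Points Y.obj)) := by
  have hV := hG.isOpen_range g.hom Y'.property Y.property hg
  refine SetLike.coe_subset_coe.2 (le_largest f (V := ⟨_, hV⟩) fun W₁ X₁ j₁ j₁' f₁ hj₁ hr₁ sq₁ => ?_)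
  obtain ⟨g₁, hg₁⟩ := exists_factor_of_range hj₁ g.hom hr₁.symm.subset
  have hm : G g₁ := factor_mem hG Y'.property W₁.property Y.property hj₁ (hg₁.symm ▸ hg)
  let l := sq₁.lift g'.hom (f'.hom ≫ g₁) (by rw [Category.assoc, hg₁, sq.w])
  have sql : IsPullback l f'.hom f₁.hom g₁ :=
    (IsPullback.of_right (h₁₁ := l) (by
      rw [show l ≫ j₁'.hom = g'.hom from sq₁.lift_fst _ _ _, hg₁]
      exact sq) (sq₁.lift_snd _ _ _) sq₁)
  refine (hP (fun _ : PUnit.{u + 1} => Y'.obj) (fun _ => g₁) W₁.property (fun _ => Y'.property)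
    ⟨fun _ => hm, fun x => ⟨⟨⟩, ?_⟩⟩ f₁.hom X₁.property (fun _ => X'.obj) (fun _ => f'.hom) (fun _ => l)
    (fun _ => X'.property) fun _ => sql).2 fun _ => hf'
  obtain ⟨y, hy⟩ := hr₁.subset ⟨x, rfl⟩
  exact ⟨y, injective_map_of_openImmersion hj₁ (by rw [← Points.map_comp, hg₁, hy])⟩

include hG hP in
theorem largest_pullback {Y' X' : AlgSp.Space S} (g : Y' ⟶ Y) (g' : X' ⟶ X) (f' : X' ⟶ Y') (hg : G g.hom)
    (sq : IsPullback g'.hom f'.hom f.hom g.hom) (W' : TopologicalSpace.Opens (Points Y'.obj))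
    (hW' : Good P f' W') (hmax : ∀ V', Good P f' V' → V' ≤ W') :
    (W' : Set (Points Y'.obj)) = Points.map g.hom ⁻¹' (largest P f : Set (Points Y.obj)) := by
  apply subset_antisymm
  · intro y hy
    obtain ⟨W₂, j₂, hj₂, hr₂⟩ := AlgSpRel14.exists_open_space Y' W'.2
    have hX₂ := isAlgSpace_pullback Y'.property X'.property W₂.property (IsPullback.of_hasPullback f'.hom j₂.hom)
    have hP₂ := hW' W₂ ⟨_, hX₂⟩ j₂ (ObjectProperty.homMk (pullback.fst f'.hom j₂.hom))
      (ObjectProperty.homMk (pullback.snd f'.hom j₂.hom)) hj₂ hr₂ (IsPullback.of_hasPullback _ _)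
    obtain ⟨w, rfl⟩ := hr₂.symm.subset hy
    refine range_subset_largest hG hP f (j₂ ≫ g) (Y' := W₂) (X' := ⟨_, hX₂⟩)
      (ObjectProperty.homMk (pullback.fst f'.hom j₂.hom ≫ g'.hom)) (ObjectProperty.homMk (pullback.snd _ _))
      (hG.comp _ _ W₂.property Y'.property Y.property (hG.openImm _ W₂.property Y'.property hj₂) hg)
      ((IsPullback.of_hasPullback _ _).paste_horiz sq) hP₂ ⟨w, ?_⟩
    exact Points.map_comp j₂.hom g.hom w
  · refine SetLike.coe_subset_coe.2 (hmax ⟨_, (largest P f).2.preimage (Points.continuous_map g.hom)⟩ ?_)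
    intro W₃ X₃ j₃ j₃' f₃ hj₃ hr₃ sq₃
    obtain ⟨W₀, j₀, hj₀, hr₀⟩ := AlgSpRel14.exists_open_space Y (largest P f).2
    have hX₀ := isAlgSpace_pullback Y.property X.property W₀.property (IsPullback.of_hasPullback f.hom j₀.hom)
    have hP₀ := good_largest hG hP f W₀ ⟨_, hX₀⟩ j₀ (ObjectProperty.homMk (pullback.fst f.hom j₀.hom))
      (ObjectProperty.homMk (pullback.snd f.hom j₀.hom)) hj₀ hr₀ (IsPullback.of_hasPullback _ _)
    obtain ⟨g₃, hg₃⟩ := exists_factor_of_range hj₀ (j₃.hom ≫ g.hom) (by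
      rintro _ ⟨w, rfl⟩
      rw [hr₀, Points.map_comp]
      exact hr₃.subset ⟨w, rfl⟩)
    have hm : G g₃ := factor_mem hG W₃.property W₀.property Y.property hj₀ (hg₃.symm ▸
      hG.comp _ _ W₃.property Y'.property Y.property (hG.openImm _ W₃.property Y'.property hj₃) hg)
    have sqb := sq₃.paste_horiz sq
    rw [← hg₃] at sqb
    let l := (IsPullback.of_hasPullback f.hom j₀.hom).lift (j₃'.hom ≫ g'.hom) (f₃.hom ≫ g₃) (by
      rw [Category.assoc (f₃.hom)]
      exact sqb.w)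
    exact baseChange_mem hG hP hX₀ W₀.property X₃.property W₃.property
      (IsPullback.of_right (h₁₁ := l) (by simpa [l] using sqb) (by simp [l])
        (IsPullback.of_hasPullback f.hom j₀.hom)) hm hP₀

/-- Classes given by chart properties. -/
theorem coverClass_locP (Q : MorphismProperty Scheme.{u}) [EtaleLocal Q]
    (hopen : ∀ ⦃A B : Scheme.{u}⦄ (g : A ⟶ B), Q g → IsOpenMap g) : CoverClass (LocP Q (S := S)) where
  openImm X Y j _ hY hj := locP_of_repWith hY (repWith_mono (fun _ _ g (_ : IsOpenImmersion g) =>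
    EtaleLocal.etale_le (P := Q) _ _ _ (inferInstance : Etale g)) hj)
  id _ hX := locP_id hX
  comp _ _ _ _ _ hX hY hZ hf hg := locP_comp hX hY hZ hf hg
  baseChange _ _ _ _ _ _ _ _ hX hY hY' sq hf := locP_of_isPullback hX hY hY' sq hf
  isOpen_range _ _ _ hX hY hg := isOpen_range_of_locP hopen hX hY hg

/-- The open immersion clause alone. -/
theorem coverClass_locP_aux (Q : MorphismProperty Scheme.{u}) [EtaleLocal Q] {X Y : Sp S} (j : X ⟶ Y)
    (hY : IsAlgSpace Y) (hj : RepWith @IsOpenImmersion j) : LocP Q j :=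
  locP_of_repWith hY (repWith_mono (fun _ _ g (_ : IsOpenImmersion g) =>
    EtaleLocal.etale_le (P := Q) _ _ _ (inferInstance : Etale g)) hj)

/-- Flat morphisms locally of finite presentation have open image. -/
theorem isOpen_range_fppf {X Y : Sp S} (hX : IsAlgSpace X) (hY : IsAlgSpace Y) {g : X ⟶ Y}
    (h1 : LocP @Flat g) (h2 : LocP @LocallyOfFinitePresentation g) : IsOpen (Set.range (Points.map g)) :=
  isOpen_range_of_locP (Q := @Flat ⊓ @LocallyOfFinitePresentation)
    (fun _ _ g hg => by have := hg.1; have := hg.2; exact g.isOpenMap) hX hY (locP_inf h1 h2)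

end Groth.Agent.LargestOpen15
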